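import Mathlib

/-!
A series for a subgroup whose order is a power of 5: words, relations and separating orbits.
-/

set_option autoImplicit false

namespace Cfsg.Lib.ThRep

/-- The words of the series. -/
def p5Words : List (List ℕ) :=
  [[2, 11, 8, 6, 4, 2, 11, 8, 6, 4, 6, 10, 10, 8, 2, 4, 6, 4, 6, 10, 8, 6, 4, 2, 0, 6, 10, 14, 0, 8, 6, 4, 2, 6, 4, 11, 8, 6, 4, 11, 8, 6, 2, 4, 2, 10, 8, 12, 10, 14, 8, 6, 4, 2, 6, 4, 2, 6, 11, 8, 6, 10, 8, 10, 4, 6, 4, 2, 0, 6, 4, 8, 10, 13],
   [0, 2, 11, 8, 6, 4, 2, 6, 4, 10, 8, 6, 4, 2, 0, 6, 8, 10, 8, 6, 11, 8, 6, 4, 14, 0, 2, 0, 8, 6, 4, 2, 6, 4, 10, 13, 10, 14, 0, 4, 2, 6, 4, 11, 8, 6, 4, 2, 11, 11, 8, 6, 0, 4, 2, 6, 4, 6, 8, 10, 12],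
   [0, 2, 0, 4, 2, 6, 4, 13, 10, 8, 6, 4, 11, 8, 10, 0, 2, 4, 6, 4, 8, 6, 4, 2, 0, 10, 10, 8, 14, 0, 8, 6, 4, 2, 6, 4, 11, 8, 6, 4, 11, 8, 6, 2, 4, 2, 10, 8, 12, 10, 14, 4, 11, 11, 8, 6, 4, 2, 11, 8, 6, 4, 6, 8, 11, 0, 2, 0, 4, 2, 6, 4, 2, 8, 6, 4, 13]]

/-- The powers. -/
def p5Pow : List (List ℕ) :=
  [[],
   [],
   []]

/-- The conjugates. -/
def p5Conj : List (List (List ℕ)) :=
  [[],
   [[0]],
   [[0], [0, 0, 0, 0, 1]]]

/-- The separating orbit of step 0. -/
def p5Orb0 : List (List ℕ) :=
  [[0x802000000040200401008010080100000008020080100001000000000200000000020040000401000010040100800000000080000801004000000200401000010000100802000000000100001004010040000000004000080100802000020080000400004020000200801008020040200402004000080200800008020040200001008010000100402008020000000401000010040100800000020040200401008020000200802008010000200000008020040200002008000040000801000020040000002000000000200801004000080100001004000080000400000000000200000008000040100001004000000000400008010080200000004020080200401000020040000002008020040200402004000000100800000010000000802000020000100400000000040200400008010040000000]]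

/-- Its links at step 0. -/
def p5Link0 : List (List ℕ) :=
  [[]]

/-- The separating orbit of step 1. -/
def p5Orb1 : List (List ℕ) :=
  [[0x1004010000000002004020040000001000010080100002008020000200402008020000200802000010080000000004000080200400004000040000801000000080000401008010040100801004010080100801004010080200802004000080200802000000000200801004020000000002004010040000002000000000000400004020040100001000010000100800004020080000802008010080100400000000000100001004000040000001000020080200801004010000000400004000000200400000010040100001000000000000802000010000000802000010040200002004000080100002008020080000802008020080200001004010000000402004000040000802008020080000001008000040000802004000040200802004010080100802008010080200801004010080000802]]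

/-- Its links at step 1. -/
def p5Link1 : List (List ℕ) :=
  [[0]]

/-- The separating orbit of step 2. -/
def p5Orb2 : List (List ℕ) :=
  [[0x402000000000200002000010080000000004000040000002004000080100400008020080100801000000000100402000020040000802008020080000000000020080100400004020080200401008010080200000008000080200402008020040200000000000000000002004020040200000008000040200801004020080100802008000040100401004020080100401008000040200800008000080200002008000080100001000010080000400008010080000001008000000200001004020040100001004020000200401004020000200800000000000000402008020000000000004000000100400008020080100800008010040100000008000040200402004020000000800000010040200401008010000200800000000000100401004020000200000004010040200802004020000100000]]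

/-- Its links at step 2. -/
def p5Link2 : List (List ℕ) :=
  [[0, 0]]

end Cfsg.Lib.ThRep
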