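import Mathlib

/-!
Words for elements of orders 19 and 31.
-/

set_option autoImplicit false

namespace Cfsg.Lib.ThRep

/-- A word of order 19. -/
def word19 : List ℕ := [0, 2, 13, 11, 8, 6, 4, 2, 6, 8, 11, 8, 6, 4, 2, 6, 4, 2, 0, 8, 6, 4, 10, 12, 14, 0, 2, 8, 6, 4, 2, 0, 12, 10, 8, 14, 0, 2, 6, 8, 6, 4, 2, 6, 4, 11, 8, 6, 10, 10, 0, 14, 6, 8, 6, 4, 2, 11, 8, 6, 4, 6, 4, 2, 12, 11, 0, 4, 8, 6, 4, 11, 8, 6, 4, 2]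

/-- A word of order 31. -/
def word31 : List ℕ := [6, 4, 8, 6, 4, 2, 12, 10, 8, 6, 4, 11, 8, 6, 0, 2, 4, 2, 11, 8, 6, 10, 8, 6, 4, 6, 11, 8, 14, 0, 8, 6, 4, 2, 6, 4, 11, 8, 6, 4, 11, 8, 6, 2, 4, 2, 10, 8, 12, 10, 14, 6, 4, 6, 4, 2, 0, 8, 6, 4, 6, 11, 8, 10, 10, 2, 4, 6, 4, 8]

end Cfsg.Lib.ThRep
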